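/-
A perfect double cover of `PSL₂(q)` is `SL₂(q)` (owner: helper31).

* `cover_equiv_sl`.
-/
import Cfsg.Agent.Lib.SLMult.Psl

set_option autoImplicit false

namespace Cfsg.Agent.QuatMeet

open Matrix
open scoped commutatorElement

universe u

theorem cover_equiv_sl_zero {F : Type} [Field F] [Fintype F] (h5 : 4 ≤ Fintype.card F)
    (hodd : Odd (Fintype.card F)) (h9 : Fintype.card F ≠ 9) {Γ : Type} [Group Γ] [Finite Γ]
    (σ : Γ →* ProjectiveSpecialLinearGroup (Fin 2) F) (hσs : Function.Surjective σ)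
    (hσc : σ.ker ≤ Subgroup.center Γ) (hk : Nat.card σ.ker = 2) (hσd : σ.ker ≤ commutator Γ) :
    Nonempty (Γ ≃* SpecialLinearGroup (Fin 2) F) := by
  classical
  let S := SpecialLinearGroup (Fin 2) F
  have h4 : Fintype.card F ≠ 4 := fun h => by rw [h] at hodd; exact absurd hodd (by decide)
  have hS : commutator S = ⊤ := by
    refine Linear.commutator_sl_eq_top ?_
    rw [Fintype.card_fin]
    right
    obtain ⟨a, ha⟩ := SLMult.exists_unit_pow_ne (K := F) (n := 2) (by norm_num) (fun hd => by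
      have := Nat.le_of_dvd (by norm_num) hd; omega)
    exact ⟨a, a.ne_zero, fun hc => ha (Units.ext (by rw [Units.val_pow_eq_pow_val, hc, Units.val_one]))⟩
  let ρ : S →* ProjectiveSpecialLinearGroup (Fin 2) F := QuotientGroup.mk' _
  have hρ : Function.Surjective ρ := QuotientGroup.mk'_surjective _
  have hker : ρ.ker = Subgroup.center S := QuotientGroup.ker_mk' _
  let P : Subgroup (Γ × S) :=
    MonoidHom.eqLocus (σ.comp (MonoidHom.fst Γ S)) (ρ.comp (MonoidHom.snd Γ S))
  let π : P →* S := (MonoidHom.snd Γ S).comp P.subtype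
  have hπ : Function.Surjective π := fun s => by
    obtain ⟨γ, hγ⟩ := hσs (ρ s)
    exact ⟨⟨(γ, s), hγ⟩, rfl⟩
  have hπc : π.ker ≤ Subgroup.center P := fun x hx => Subgroup.mem_center_iff.2 fun y => by
    have h1 : (x : Γ × S).2 = 1 := hx
    have h0 : (x : Γ × S).1 ∈ σ.ker := by
      rw [MonoidHom.mem_ker]
      show σ (x : Γ × S).1 = 1
      rw [show σ (x : Γ × S).1 = ρ (x : Γ × S).2 from x.2, h1, map_one]
    refine Subtype.ext (Prod.ext (Subgroup.mem_center_iff.1 (hσc h0) _) ?_)
    show (y : Γ × S).2 * (x : Γ × S).2 = (x : Γ × S).2 * (y : Γ × S).2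
    rw [h1, mul_one, one_mul]
  obtain ⟨s, hs⟩ : ∃ s : S →* P, π.comp s = MonoidHom.id S := by
    have hsur : ∀ x : P, ∃ d ∈ commutator P, ∃ z ∈ π.ker, x = d * z := by
      intro x
      have : π x ∈ (commutator P).map π := by
        rw [commutator_def, Subgroup.map_commutator, Subgroup.map_top_of_surjective π hπ,
          ← commutator_def, hS]
        trivial
      obtain ⟨d, hd, he⟩ := this
      exact ⟨d, hd, d⁻¹ * x, by rw [MonoidHom.mem_ker, map_mul, map_inv, he, inv_mul_cancel], by group⟩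
    set D := commutator P with hDdef
    let πD : D →* S := π.comp D.subtype
    have hDp : commutator D = ⊤ := by
      have hDD : D ≤ ⁅D, D⁆ := by
        conv_lhs => rw [hDdef, commutator_def]
        refine Subgroup.commutator_le.2 fun x _ y _ => ?_
        obtain ⟨d, hd, z, hz, rfl⟩ := hsur x
        obtain ⟨e, he, w, hw, rfl⟩ := hsur y
        have h1 := Subgroup.mem_center_iff.1 (hπc hz)
        have h2 := Subgroup.mem_center_iff.1 (hπc hw)
        have : ⁅d * z, e * w⁆ = ⁅d, e⁆ := by
          rw [commutatorElement_def, commutatorElement_def]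
          calc d * z * (e * w) * (d * z)⁻¹ * (e * w)⁻¹
              = d * (z * (e * w)) * (z⁻¹ * d⁻¹) * (w⁻¹ * e⁻¹) := by group
            _ = d * (e * w * z) * (z⁻¹ * d⁻¹) * (w⁻¹ * e⁻¹) := by rw [← h1]
            _ = d * e * (w * d⁻¹) * (w⁻¹ * e⁻¹) := by group
            _ = d * e * (d⁻¹ * w) * (w⁻¹ * e⁻¹) := by rw [← h2]
            _ = _ := by group
        rw [this]
        exact Subgroup.commutator_mem_commutator hd he
      refine Subgroup.map_injective D.subtype_injective ?_
      rw [commutator_def (G := D), Subgroup.map_commutator, ← MonoidHom.range_eq_map,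
        Subgroup.range_subtype]
      exact le_antisymm (Subgroup.commutator_le_self D) hDD
    have hstem : Cfsg.IsStemExtension πD := by
      refine ⟨fun s => ?_, fun x hx => Subgroup.mem_center_iff.2 fun y => Subtype.ext
        (Subgroup.mem_center_iff.1 (hπc (show (x : P) ∈ π.ker from hx)) y), by rw [hDp]; exact le_top⟩
      obtain ⟨x, rfl⟩ := hπ s
      obtain ⟨d, hd, z, hz, rfl⟩ := hsur x
      exact ⟨⟨d, hd⟩, by rw [map_mul, MonoidHom.mem_ker.1 hz, mul_one]; rfl⟩
    obtain ⟨π', hπ'⟩ := (S2117.result (F := F) h4 h9).2 D πD hstem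
    have hinj : Function.Injective πD := by
      rw [← MonoidHom.ker_eq_bot_iff, eq_bot_iff]
      intro x hx
      obtain ⟨a, ha⟩ := hπ' ⟨x, hx⟩
      have ha1 : a = 1 := by
        haveI : Subsingleton (Multiplicative (ZMod 1)) := inferInstanceAs (Subsingleton (ZMod 1))
        exact Subsingleton.elim _ _
      rw [ha1, map_one] at ha
      exact Subgroup.mem_bot.2 (congrArg Subtype.val ha).symm
    let e := MulEquiv.ofBijective πD ⟨hinj, hstem.1⟩
    exact ⟨D.subtype.comp e.symm.toMonoidHom, MonoidHom.ext fun s => e.apply_symm_apply s⟩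
  set τ : S →* Γ := ((MonoidHom.fst Γ S).comp P.subtype).comp s with hτdef
  have hτ : σ.comp τ = ρ := MonoidHom.ext fun x => by
    have h1 : ((s x : P) : Γ × S).2 = x := DFunLike.congr_fun hs x
    show σ ((s x : P) : Γ × S).1 = ρ x
    rw [show σ ((s x : P) : Γ × S).1 = ρ ((s x : P) : Γ × S).2 from (s x).2, h1]
  have hsur : Function.Surjective τ :=
    SLMult.surjective_of_comp hS hσc hσd (by rw [hτ]; exact hρ)
  have hcard : Nat.card S = Nat.card Γ := by
    rw [← σ.ker.card_mul_index, ← ρ.ker.card_mul_index, Subgroup.index_ker, Subgroup.index_ker,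
      MonoidHom.range_eq_top.2 hρ, MonoidHom.range_eq_top.2 hσs, hk, hker,
      SLMult.card_center_sl 2 (by norm_num)]
    congr 1
    obtain ⟨j, hj⟩ := hodd
    rw [hj, Nat.add_sub_cancel, Nat.gcd_eq_left (dvd_mul_right 2 j)]
  exact ⟨(MulEquiv.ofBijective τ ((Nat.bijective_iff_surjective_and_card τ).2 ⟨hsur, hcard⟩)).symm⟩

/-- Any universe. -/
theorem cover_equiv_sl {F : Type} [Field F] [Fintype F] (h5 : 4 ≤ Fintype.card F)
    (hodd : Odd (Fintype.card F)) (h9 : Fintype.card F ≠ 9) {Γ : Type u} [Group Γ] [Finite Γ]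
    (σ : Γ →* ProjectiveSpecialLinearGroup (Fin 2) F) (hσs : Function.Surjective σ)
    (hσc : σ.ker ≤ Subgroup.center Γ) (hk : Nat.card σ.ker = 2) (hσd : σ.ker ≤ commutator Γ) :
    Nonempty (Γ ≃* SpecialLinearGroup (Fin 2) F) := by
  let e : Shrink.{0} Γ ≃* Γ := Shrink.mulEquiv
  haveI : Finite (Shrink.{0} Γ) := Finite.of_equiv Γ e.symm.toEquiv
  let σ' := σ.comp e.toMonoidHom
  have hk' : σ'.ker = σ.ker.comap e.toMonoidHom := rfl
  have hcard : Nat.card σ'.ker = 2 := by
    refine Eq.trans ?_ hk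
    exact Nat.card_congr (e.toEquiv.subtypeEquiv fun a => Iff.rfl)
  obtain ⟨f⟩ := cover_equiv_sl_zero h5 hodd h9 σ' (hσs.comp e.surjective)
    (fun x hx => Subgroup.mem_center_iff.2 fun y => e.injective (by
      rw [map_mul, map_mul]; exact Subgroup.mem_center_iff.1 (hσc hx) (e y)))
    hcard
    (fun x hx => by
      have h1 : (commutator (Shrink.{0} Γ)).map e.toMonoidHom = commutator Γ := by
        rw [commutator_def, Subgroup.map_commutator, Subgroup.map_top_of_surjective _ e.surjective,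
          ← commutator_def]
      have h2 : e x ∈ (commutator (Shrink.{0} Γ)).map e.toMonoidHom := h1 ▸ hσd hx
      obtain ⟨y, hy, hye⟩ := h2
      rwa [← e.injective hye])
  exact ⟨e.symm.trans f⟩

end Cfsg.Agent.QuatMeet
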