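/-
Quaternion Sylow 2-subgroups meeting cyclically (owner: helper31).

* `sylow_q8`: in a nonsolvable group they have order 8.
* `exists_fuse`: a group without odd normal subgroup with a Klein four Sylow 2-subgroup, not
  solvable, fuses all involutions of that subgroup.
-/
import Cfsg.Agent.S0071
import Cfsg.Agent.Lib.Transfer.QuaternionFusion
import Cfsg.Agent.Lib.OddOrderTheorem.Basic
import Cfsg.Agent.Lib.Cores.Basic

set_option autoImplicit false

namespace Cfsg.Agent.QuatMeet

open Subgroup
open scoped Pointwise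

universe u

variable {G : Type u} [Group G] [Finite G]

theorem isSolvable_of_complement (S : Sylow 2 G) {N : Subgroup G} (hn : N.Normal)
    (hc : N.IsComplement' (S : Subgroup G)) : Group.IsSolvable G := by
  haveI : Fact (Nat.Prime 2) := ⟨Nat.prime_two⟩
  haveI := hn
  have hodd : Odd (Nat.card N) := by
    rw [← hc.index_eq_card]
    exact Nat.not_even_iff_odd.1 fun h => S.not_dvd_index (even_iff_two_dvd.1 h)
  haveI : Group.IsSolvable N := OddOrderTheorem.solvable hodd
  have hp : IsPGroup 2 (G ⧸ N) := by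
    obtain ⟨k, hk⟩ := IsPGroup.iff_card.1 S.isPGroup'
    refine IsPGroup.of_card (n := k) ?_
    rw [← Subgroup.index_eq_card, hc.symm.index_eq_card, hk]
  haveI : Group.IsNilpotent (G ⧸ N) := hp.isNilpotent
  exact (Group.isSolvable_iff_subgroup_quotient N).2 ⟨inferInstance, inferInstance⟩

omit [Finite G] in
theorem not_isCyclic_q8 (e : G ≃* QuaternionGroup 2) : ¬ IsCyclic G := fun h => by
  haveI := isCyclic_of_surjective e.toMonoidHom e.surjective
  have h1 : (QuaternionGroup.a 1 : QuaternionGroup 2) * QuaternionGroup.xa 0 ≠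
      QuaternionGroup.xa 0 * QuaternionGroup.a 1 := by decide
  exact h1 ((IsCyclic.isMulCommutative (α := QuaternionGroup 2)).is_comm.comm _ _)

/-- The Sylow 2-subgroups are quaternion of order 8. -/
theorem sylow_q8 (hns : ¬ Group.IsSolvable G)
    (hQ : ∀ S : Sylow 2 G, ∃ n : ℕ, Nonempty (↥(S : Subgroup G) ≃* QuaternionGroup (2 ^ (n + 1))))
    (hC : ∀ S T : Sylow 2 G, S ≠ T → IsCyclic ↥((S : Subgroup G) ⊓ (T : Subgroup G))) (S : Sylow 2 G) :
    Nonempty (↥(S : Subgroup G) ≃* QuaternionGroup 2) := by
  haveI : Fact (Nat.Prime 2) := ⟨Nat.prime_two⟩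
  obtain ⟨n, ⟨e⟩⟩ := hQ S
  rcases n with _ | n
  · exact ⟨e⟩
  exfalso
  apply hns
  obtain ⟨N, hn, hc⟩ := (S0071.result S).2 fun Q hQS g hg hco => by
    have key : ∀ R : Subgroup (QuaternionGroup (2 ^ (n + 1 + 1))),
        IsPGroup 2 (MulAut R) ∨ Nonempty (R ≃* QuaternionGroup 2) :=
      Transfer.quaternion_subgroup_cases rfl
    let eQ : Q ≃* (Q.subgroupOf (S : Subgroup G)).map e.toMonoidHom :=
      (subgroupOfEquivOfLe hQS).symm.trans (equivMapOfInjective _ _ e.injective)
    rcases key ((Q.subgroupOf (S : Subgroup G)).map e.toMonoidHom) with h | hf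
    · exact Transfer.centralizes_of_isPGroup_mulAut (Transfer.isPGroup_mulAut_of_equiv eQ h) hg hco
    have hgS : g ∈ normalizer ((S : Subgroup G) : Set G) := by
      refine Sylow.smul_eq_iff_mem_normalizer.1 ?_
      by_contra hne
      haveI := hC (g • S) S hne
      have hle : Q ≤ ((g • S : Sylow 2 G) : Subgroup G) ⊓ (S : Subgroup G) := by
        refine le_inf (fun x hx => ?_) hQS
        rw [Sylow.coe_subgroup_smul]
        have h1 : g⁻¹ * x * g ∈ Q := by
          have h2 := (mem_normalizer_iff.1 hg (g⁻¹ * x * g)).2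
          exact h2 (by rw [show g * (g⁻¹ * x * g) * g⁻¹ = x by group]; exact hx)
        have h2 := smul_mem_pointwise_smul _ (MulAut.conj g) _ (hQS h1)
        rwa [MulAut.smul_def, MulAut.conj_apply, show g * (g⁻¹ * x * g) * g⁻¹ = x by group] at h2
      obtain ⟨f⟩ := hf
      exact not_isCyclic_q8 (eQ.trans f)
        (isCyclic_of_injective (inclusion hle) (inclusion_injective hle))
    have hS : IsPGroup 2 (MulAut (S : Subgroup G)) := by
      rcases key ⊤ with h | hf'
      · exact Transfer.isPGroup_mulAut_of_equiv (e.trans topEquiv.symm) h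
      · exfalso
        obtain ⟨f'⟩ := hf'
        have hcard := Nat.card_congr (topEquiv.symm.trans f').toEquiv
        haveI : NeZero (2 ^ (n + 1 + 1) : ℕ) := ⟨by positivity⟩
        rw [Nat.card_eq_fintype_card, Nat.card_eq_fintype_card, QuaternionGroup.card,
          QuaternionGroup.card, pow_succ, pow_succ] at hcard
        have := Nat.one_le_two_pow (n := n)
        omega
    exact centralizer_le (SetLike.coe_subset_coe.2 hQS)
      (Transfer.centralizes_of_isPGroup_mulAut hS hgS hco)
  exact isSolvable_of_complement S hn hc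

/-- Fusion in a nonsolvable group with a Klein four Sylow 2-subgroup. -/
theorem exists_fuse (hns : ¬ Group.IsSolvable G) (S : Sylow 2 G)
    (h4 : Nat.card (S : Subgroup G) = 4) (hsq : ∀ v ∈ (S : Subgroup G), v * v = 1) :
    ∀ x ∈ (S : Subgroup G), x ≠ 1 → ∀ y ∈ (S : Subgroup G), y ≠ 1 → ∃ k : G, k * x * k⁻¹ = y := by
  classical
  haveI : Fact (Nat.Prime 2) := ⟨Nat.prime_two⟩
  obtain ⟨g, hg, hco, w, hw, hgw⟩ : ∃ g ∈ normalizer ((S : Subgroup G) : Set G),
      Nat.Coprime (orderOf g) 2 ∧ ∃ w ∈ (S : Subgroup G), g * w * g⁻¹ ≠ w := by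
    by_contra hcon
    push Not at hcon
    obtain ⟨N, hn, hc⟩ := (S0071.result S).2 fun Q hQS g hg hco => by
      have hd := card_dvd_of_le hQS
      rw [h4] at hd
      by_cases hQ4 : Nat.card Q = 4
      · obtain rfl : Q = (S : Subgroup G) := eq_of_le_of_card_ge hQS (by rw [h4, hQ4])
        exact fun w hw => (mul_inv_eq_iff_eq_mul.1 (hcon g hg hco w hw)).symm
      · have h2 : Nat.card Q ≤ 2 := by
          have h := Nat.le_of_dvd (by norm_num) hd
          interval_cases (Nat.card Q) <;> simp_all
        intro w hw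
        by_cases hw1 : w = 1
        · subst hw1; simp
        have hgw : g * w * g⁻¹ ∈ Q := (mem_normalizer_iff.1 hg w).1 hw
        haveI : Nontrivial Q := ⟨⟨1, ⟨w, hw⟩, fun e => hw1 (congrArg Subtype.val e).symm⟩⟩
        have hQ2 : Nat.card Q = 2 := le_antisymm h2 Finite.one_lt_card
        obtain ⟨a, -, huniq⟩ := (Nat.card_eq_two_iff' (1 : Q)).1 hQ2
        have h1 := huniq ⟨w, hw⟩ (fun e => hw1 (congrArg Subtype.val e))
        have h3 := huniq ⟨_, hgw⟩ (fun e => hw1 (conj_eq_one_iff.1 (congrArg Subtype.val e)))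
        exact (mul_inv_eq_iff_eq_mul.1 (congrArg Subtype.val (h3.trans h1.symm))).symm
    exact hns (isSolvable_of_complement S hn hc)
  set f : MulAut (S : Subgroup G) := (S : Subgroup G).normalizerMonoidHom ⟨g, hg⟩ with hf
  set a : (S : Subgroup G) := ⟨w, hw⟩ with ha
  have hfa : ∀ v : (S : Subgroup G), ((f v : (S : Subgroup G)) : G) = g * v * g⁻¹ := fun _ => rfl
  have hab : f a ≠ a := fun e => hgw (by rw [← hfa a, e])
  have ha1 : a ≠ 1 := fun e => hab (by rw [e, map_one])
  have hbc : f (f a) ≠ f a := fun e => hab (f.injective e)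
  have hac : f (f a) ≠ a := by
    intro e
    have h2 : f ^ 2 = 1 := by
      have hb1 : f a ≠ 1 := fun e' => ha1 (f.injective (e'.trans (map_one f).symm))
      haveI : Fintype (S : Subgroup G) := Fintype.ofFinite _
      have hall : (Finset.univ : Finset (S : Subgroup G)) = {1, a, f a, a * f a} := by
        symm
        refine Finset.eq_univ_of_card _ ?_
        rw [← Nat.card_eq_fintype_card, h4]
        have h5 : a * f a ≠ 1 := fun e' => hab (by
          rw [eq_inv_of_mul_eq_one_right e']
          exact Subtype.ext (inv_eq_of_mul_eq_one_left (hsq w hw)))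
        rw [Finset.card_insert_of_notMem (by simp [ha1.symm, hb1.symm, h5.symm]),
          Finset.card_insert_of_notMem (by simp [hab.symm, hb1]),
          Finset.card_insert_of_notMem (by simp [ha1]), Finset.card_singleton]
      refine MulEquiv.ext fun v => ?_
      have hv := Finset.mem_univ v
      rw [hall] at hv
      simp only [Finset.mem_insert, Finset.mem_singleton] at hv
      rw [pow_two, MulAut.mul_apply, MulAut.one_apply]
      rcases hv with rfl | rfl | rfl | rfl
      · rw [map_one, map_one]
      · exact e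
      · rw [e]
      · rw [map_mul, map_mul, e]
    have h1 : f = 1 := by
      rw [← orderOf_eq_one_iff]
      refine Nat.eq_one_of_dvd_coprimes hco ?_ (orderOf_dvd_of_pow_eq_one h2)
      have := orderOf_map_dvd (S : Subgroup G).normalizerMonoidHom ⟨g, hg⟩
      rwa [Subgroup.orderOf_mk] at this
    exact hab (by rw [h1, MulAut.one_apply])
  have hb1 : f a ≠ 1 := fun e => ha1 (f.injective (e.trans (map_one f).symm))
  have hc1 : f (f a) ≠ 1 := fun e => hb1 (f.injective (e.trans (map_one f).symm))
  have hconj : ∀ x ∈ (S : Subgroup G), x ≠ 1 → ∃ k : G, k * w * k⁻¹ = x := by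
    intro x hx hx1
    haveI : Fintype (S : Subgroup G) := Fintype.ofFinite _
    have hall : (Finset.univ : Finset (S : Subgroup G)) = {1, a, f a, f (f a)} := by
      symm
      refine Finset.eq_univ_of_card _ ?_
      rw [← Nat.card_eq_fintype_card, h4]
      rw [Finset.card_insert_of_notMem (by simp [ha1.symm, hb1.symm, hc1.symm]),
        Finset.card_insert_of_notMem (by simp [hab.symm, hac.symm]),
        Finset.card_insert_of_notMem (by simp [hbc.symm]), Finset.card_singleton]
    have hv := Finset.mem_univ (⟨x, hx⟩ : (S : Subgroup G))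
    rw [hall] at hv
    simp only [Finset.mem_insert, Finset.mem_singleton] at hv
    rcases hv with e | e | e | e
    · exact absurd (congrArg Subtype.val e) hx1
    · exact ⟨1, by rw [one_mul, inv_one, mul_one]; exact (congrArg Subtype.val e).symm⟩
    · exact ⟨g, ((congrArg Subtype.val e).trans (hfa a)).symm⟩
    · refine ⟨g * g, ((congrArg Subtype.val e).trans ?_).symm⟩
      rw [hfa, hfa, ha]
      group
  intro x hx hx1 y hy hy1
  obtain ⟨k, rfl⟩ := hconj x hx hx1
  obtain ⟨l, rfl⟩ := hconj y hy hy1
  exact ⟨l * k⁻¹, by group⟩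

end Cfsg.Agent.QuatMeet
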