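/-
Nonsolvable groups with quaternion Sylow 2-subgroups meeting cyclically (owner: helper31):
statement S3307 from the Klein four case of Gorenstein-Walter.

* `main`.
-/
import Cfsg.Agent.Lib.QuatMeet.Basic
import Cfsg.Agent.Lib.QuatMeet.Cover
import Cfsg.Agent.Lib.HalfClasses.Klein
import Cfsg.Agent.S0201
import Cfsg.Agent.S4337

set_option autoImplicit false

namespace Cfsg.Agent.QuatMeet

open Subgroup Cfsg
open scoped commutatorElement

universe u

variable {G : Type u} [Group G] [Finite G]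

instance factTwo : Fact (Nat.Prime 2) := ⟨Nat.prime_two⟩

theorem isSolvable_a4 : Group.IsSolvable (alternatingGroup (Fin 4)) := by
  haveI := S4337.perm4_solvable
  infer_instance

/-- The case without odd normal subgroup. -/
theorem core_free (hGW : HalfClasses.KleinGW.{u}) (hns : ¬ Group.IsSolvable G)
    (hO : pPrimeCore 2 G = ⊥) (S : Sylow 2 G) (e : (S : Subgroup G) ≃* QuaternionGroup 2) :
    ∃ K : Subgroup G, K.Normal ∧ Odd K.index ∧
      ∃ (F : Type) (_ : Field F) (_ : Fintype F),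
        (Fintype.card F % 8 = 3 ∨ Fintype.card F % 8 = 5) ∧ 3 < Fintype.card F ∧
        Nonempty (↥K ≃* Matrix.SpecialLinearGroup (Fin 2) F) := by
  classical
  set Z := Subgroup.center G with hZ
  have hZ2 : Nat.card Z = 2 := S0201.result S 0 e fun N hN hodd => le_bot_iff.1
    (hO ▸ Cores.le_pPrimeCore hN (Nat.coprime_two_right.2 hodd))
  have hZp : IsPGroup 2 Z := IsPGroup.of_card (n := 1) (by rw [hZ2, pow_one])
  have hZS : ∀ T : Sylow 2 G, Z ≤ (T : Subgroup G) := fun T => hZp.le_sylow_of_normal T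
  -- every involution is central
  have hinv : ∀ x : G, x * x = 1 → x ∈ Z := by
    intro x hx
    by_cases hx1 : x = 1
    · subst hx1; exact one_mem _
    have ho : orderOf x = 2 := orderOf_eq_prime (by rw [pow_two, hx]) hx1
    obtain ⟨T, hT⟩ := (IsPGroup.of_card (n := 1)
      (by rw [Nat.card_zpowers, ho, pow_one] : Nat.card (zpowers x) = 2 ^ 1)).exists_le_sylow
    obtain ⟨eT⟩ : Nonempty ((T : Subgroup G) ≃* QuaternionGroup 2) := ⟨(T.equiv S).trans e⟩
    obtain ⟨z, hz⟩ := exists_prime_orderOf_dvd_card' (G := Z) 2 (by rw [hZ2])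
    have hkey : ∀ a b : QuaternionGroup 2, a * a = 1 → a ≠ 1 → b * b = 1 → b ≠ 1 → a = b := by decide
    have hzz : (z : G) * z = 1 := by
      rw [← pow_two, ← hz, ← Subgroup.orderOf_coe, pow_orderOf_eq_one]
    have hz1 : (z : G) ≠ 1 := fun h => by
      rw [← Subgroup.orderOf_coe, h, orderOf_one] at hz
      omega
    have h1 := hkey (eT ⟨x, hT (mem_zpowers x)⟩) (eT ⟨z, hZS T z.2⟩)
      (by rw [← map_mul, ← map_one eT]; exact congrArg eT (Subtype.ext hx))
      (fun h => hx1 (congrArg Subtype.val (eT.injective (h.trans (map_one eT).symm))))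
      (by rw [← map_mul, ← map_one eT]; exact congrArg eT (Subtype.ext hzz))
      (fun h => hz1 (congrArg Subtype.val (eT.injective (h.trans (map_one eT).symm))))
    rw [show x = (z : G) from congrArg Subtype.val (eT.injective h1)]
    exact z.2
  let π : G →* G ⧸ Z := QuotientGroup.mk' Z
  have hπ : Function.Surjective π := QuotientGroup.mk'_surjective _
  haveI : Group.IsNilpotent Z := hZp.isNilpotent
  have hnsX : ¬ Group.IsSolvable (G ⧸ Z) := fun h =>
    hns ((Group.isSolvable_iff_subgroup_quotient Z).2 ⟨inferInstance, h⟩)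
  let V : Sylow 2 (G ⧸ Z) := S.mapSurjective hπ
  have hS8 : Nat.card (S : Subgroup G) = 8 := by
    rw [Nat.card_congr e.toEquiv, Nat.card_eq_fintype_card, QuaternionGroup.card]
  have hV4 : Nat.card (V : Subgroup (G ⧸ Z)) = 4 := by
    show Nat.card ((S : Subgroup G).map π) = 4
    have h := Subgroup.relIndex_mul_relIndex (⊥ : Subgroup G) Z (S : Subgroup G) bot_le (hZS S)
    rw [Subgroup.relIndex_bot_left, Subgroup.relIndex_bot_left, hZ2, hS8] at h
    have h2 := Subgroup.relIndex_ker (S : Subgroup G) π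
    rw [QuotientGroup.ker_mk'] at h2
    omega
  have hVsq : ∀ v ∈ (V : Subgroup (G ⧸ Z)), v * v = 1 := by
    rintro _ ⟨x, hx, rfl⟩
    rw [← map_mul]
    show ((x * x : G) : G ⧸ Z) = 1
    rw [QuotientGroup.eq_one_iff]
    refine hinv _ ?_
    have hkey : ∀ a : QuaternionGroup 2, a * a * (a * a) = 1 := by decide
    have := hkey (e ⟨x, hx⟩)
    rw [← map_mul, ← map_mul, ← map_one e] at this
    exact congrArg Subtype.val (e.injective this)
  have hOX : pPrimeCore 2 (G ⧸ Z) = ⊥ := by
    set N := pPrimeCore 2 (G ⧸ Z) with hN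
    haveI : N.Normal := pPrimeCore_normal 2 _
    set M := N.comap π with hM
    haveI : M.Normal := Subgroup.Normal.comap inferInstance π
    have hOM : pPrimeCore 2 M = ⊥ := by
      have h : (pPrimeCore 2 M).map M.subtype = ⊥ := by
        rw [Cores.pPrimeCore_map_subtype, hO, bot_inf_eq]
      rwa [Subgroup.map_eq_bot_iff, Subgroup.ker_subtype, le_bot_iff] at h
    obtain ⟨T⟩ := (inferInstance : Nonempty (Sylow 2 M))
    have hTZ : ∀ t ∈ (T : Subgroup M), (t : G) ∈ Z := by
      intro t ht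
      have h1 : π t ∈ N := t.2
      obtain ⟨j, hj⟩ := (IsPGroup.iff_orderOf.1 T.isPGroup') ⟨t, ht⟩
      rw [Subgroup.orderOf_mk, ← Subgroup.orderOf_coe] at hj
      have h2 : π t = 1 := by
        rw [← orderOf_eq_one_iff]
        refine Nat.eq_one_of_dvd_coprimes ?_ (hj ▸ orderOf_map_dvd π (t : G))
          ((Subgroup.orderOf_mk _ h1) ▸ orderOf_dvd_natCard (⟨_, h1⟩ : N))
        exact (Cores.coprime_card_pPrimeCore 2 (G := G ⧸ Z)).symm.pow_left j
      exact (QuotientGroup.eq_one_iff _).1 h2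
    have hp : IsPGroup 2 M := by
      refine HalfClasses.isPGroup_of_noFusion T hOM ?_
      rintro x hx y hy ⟨g, hg⟩
      refine ⟨1, one_mem _, ?_⟩
      rw [one_mul, inv_one, mul_one, ← hg]
      have h1 : (g : G) * x = x * g := Subgroup.mem_center_iff.1 (hTZ x hx) g
      exact Subtype.ext (by
        rw [Subgroup.coe_mul, Subgroup.coe_mul, h1, Subgroup.coe_inv, mul_inv_cancel_right])
    refine eq_bot_iff.2 fun n hn => ?_
    obtain ⟨m, rfl⟩ := hπ n
    have htop : (T : Subgroup M) = ⊤ := (T.3 (hp.to_subgroup ⊤) le_top).symm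
    have := hTZ ⟨m, hn⟩ (htop ▸ Subgroup.mem_top _)
    exact Subgroup.mem_bot.2 ((QuotientGroup.eq_one_iff _).2 this)
  have hVk : IsKleinFour (V : Subgroup (G ⧸ Z)) := HalfClasses.isKleinFour_of_sq hV4 hVsq
  have d : HalfClasses.KleinData (V : Subgroup (G ⧸ Z)) ⊤ := by
    refine ⟨inferInstance, le_top, hVk, ?_, fun x hx hx1 y hy hy1 => ?_, by rw [Subgroup.index_top]; norm_num,
      fun t ⟨j, hj⟩ hc => ?_⟩
    · rw [Subgroup.relIndex_top_right]; exact V.not_dvd_index
    · obtain ⟨k, hk⟩ := exists_fuse hnsX V hV4 hVsq x hx hx1 y hy hy1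
      exact ⟨k, Subgroup.mem_top _, hk⟩
    · have hH : IsPGroup 2 ↥((V : Subgroup (G ⧸ Z)) ⊔ zpowers t) := by
        refine V.isPGroup'.to_sup_of_normal_left' (IsPGroup.of_card (n := j)
          (by rw [Nat.card_zpowers, hj])) (zpowers_le.2 ?_)
        exact centralizer_le_normalizer (V : Subgroup (G ⧸ Z)).carrier fun v hv => (hc v hv).symm
      have := V.3 hH le_sup_left
      exact this.le (mem_sup_right (mem_zpowers t))
  rcases HalfClasses.shape_of_kleinData hGW d hOX with ⟨⟨f⟩⟩ | ⟨⟨f⟩⟩ |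
    ⟨N, hNn, hNs, hNc, -, F, iF, jF, h3, h8, ⟨f⟩⟩
  · exact absurd (haveI := isSolvable_a4
      Group.isSolvable_of_surjective (G := alternatingGroup (Fin 4)) (f := f.symm.toMonoidHom) f.symm.surjective) hnsX
  · exact absurd (haveI := S4337.perm4_solvable
      Group.isSolvable_of_surjective (G := Equiv.Perm (Fin 4)) (f := f.symm.toMonoidHom) f.symm.surjective) hnsX
  haveI := hNn
  have hN1 : N ≠ ⊥ := fun h => by
    subst h
    exact hNc ⟨⟨fun a b => Subsingleton.elim _ _⟩⟩
  have hVN : (V : Subgroup (G ⧸ Z)) ≤ N := HalfClasses.le_of_normalised d hOX le_top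
    (fun k _ m hm => hNn.conj_mem m hm k) hN1
  have hNodd : Odd N.index := Nat.not_even_iff_odd.1 fun h => V.not_dvd_index
    ((even_iff_two_dvd.1 h).trans (Subgroup.index_dvd_of_le hVN))
  refine ⟨N.comap π, inferInstance, by rwa [Subgroup.index_comap_of_surjective _ hπ], F, iF, jF, h8, h3, ?_⟩
  set K := N.comap π with hK
  let g : K →* N := π.subgroupComap N
  have hg : Function.Surjective g := fun y => by
    obtain ⟨x, hx⟩ := hπ (y : G ⧸ Z)
    exact ⟨⟨x, by show π x ∈ N; rw [hx]; exact y.2⟩, Subtype.ext hx⟩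
  let σ : K →* Matrix.ProjectiveSpecialLinearGroup (Fin 2) F := f.toMonoidHom.comp g
  have hσker : σ.ker = Z.subgroupOf K := by
    ext x
    rw [MonoidHom.mem_ker, Subgroup.mem_subgroupOf, ← QuotientGroup.eq_one_iff]
    show f (g x) = 1 ↔ _
    rw [map_eq_one_iff f f.injective]
    exact ⟨fun h => congrArg Subtype.val h, fun h => Subtype.ext h⟩
  have hZK : Z ≤ K := fun x hx => by
    show π x ∈ N
    rw [show π x = 1 from (QuotientGroup.eq_one_iff x).2 hx]
    exact one_mem _
  have hk : Nat.card σ.ker = 2 := by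
    rw [hσker, Nat.card_congr (Subgroup.subgroupOfEquivOfLe hZK).toEquiv, hZ2]
  have hd : σ.ker ≤ commutator K := by
    have hN_perf : commutator N = ⊤ := by
      rcases (inferInstance : (commutator N).Normal).eq_bot_or_eq_top with h | h
      · refine absurd ⟨⟨fun a b => ?_⟩⟩ hNc
        have h1 : ⁅a, b⁆ ∈ commutator N := commutator_mem_commutator (mem_top a) (mem_top b)
        rw [h, Subgroup.mem_bot] at h1
        exact commutatorElement_eq_one_iff_mul_comm.1 h1
      · exact h
    have hmap : (commutator K).map g = ⊤ := by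
      rw [_root_.commutator_def, Subgroup.map_commutator, Subgroup.map_top_of_surjective g hg, ← _root_.commutator_def,
        hN_perf]
    have h2N : 2 ∣ Nat.card N :=
      (show 2 ∣ Nat.card (V : Subgroup (G ⧸ Z)) by rw [hV4]; norm_num).trans (card_dvd_of_le hVN)
    have h2 : 2 ∣ Nat.card (commutator K) := by
      refine h2N.trans ?_
      rw [← Subgroup.card_top (G := N), ← hmap]
      exact Subgroup.card_dvd_of_surjective _ (g.subgroupMap_surjective _)
    obtain ⟨t, ht⟩ := exists_prime_orderOf_dvd_card' (G := commutator K) 2 h2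
    rw [← Subgroup.orderOf_coe] at ht
    have ht1 : ((t : K) : G) ∈ Z := hinv _ (by
      rw [← Subgroup.coe_mul, ← pow_two, ← ht, pow_orderOf_eq_one, OneMemClass.coe_one])
    have hle : zpowers (t : K) ≤ σ.ker := zpowers_le.2 (by rw [hσker]; exact ht1)
    rw [← eq_of_le_of_card_ge hle (by rw [hk, Nat.card_zpowers, ht])]
    exact zpowers_le.2 t.2
  exact cover_equiv_sl (by omega) (Nat.odd_iff.2 (by omega)) (by omega) σ (f.surjective.comp hg)
    (by rw [hσker]; exact fun x hx => Subgroup.mem_center_iff.2 fun y =>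
      Subtype.ext (Subgroup.mem_center_iff.1 (Subgroup.mem_subgroupOf.1 hx) _)) hk hd

/-- Statement S3307 from the Klein four case of Gorenstein-Walter. -/
theorem main (hGW : HalfClasses.KleinGW.{u}) (hns : ¬ Group.IsSolvable G)
    (hQ : ∀ S : Sylow 2 G, ∃ n : ℕ, Nonempty (↥(S : Subgroup G) ≃* QuaternionGroup (2 ^ (n + 1))))
    (hC : ∀ S T : Sylow 2 G, S ≠ T → IsCyclic ↥((S : Subgroup G) ⊓ (T : Subgroup G))) :
    (∀ S : Sylow 2 G, Nonempty (↥(S : Subgroup G) ≃* QuaternionGroup 2)) ∧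
    ∃ (G₁ : Subgroup G) (_ : G₁.Normal) (_ : ((Cfsg.oddCore G).subgroupOf G₁).Normal),
      Odd G₁.index ∧ Cfsg.oddCore G ≤ G₁ ∧
      ∃ (F : Type) (_ : Field F) (_ : Fintype F), (Fintype.card F % 8 = 3 ∨ Fintype.card F % 8 = 5) ∧ 3 < Fintype.card F ∧
        Nonempty (↥G₁ ⧸ (Cfsg.oddCore G).subgroupOf G₁ ≃* Matrix.SpecialLinearGroup (Fin 2) F) := by
  refine ⟨sylow_q8 hns hQ hC, ?_⟩
  obtain ⟨S⟩ : Nonempty (Sylow 2 G) := inferInstance
  obtain ⟨e⟩ := sylow_q8 hns hQ hC S
  set O := Cfsg.oddCore G with hO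
  let f := QuotientGroup.mk' O
  have hf : Function.Surjective f := QuotientGroup.mk'_surjective O
  have hOodd : Odd (Nat.card O) := Nat.coprime_two_right.1 (Cores.coprime_card_pPrimeCore 2)
  haveI : Group.IsSolvable O := OddOrderTheorem.solvable hOodd
  have hns' : ¬ Group.IsSolvable (G ⧸ O) := fun h =>
    hns ((Group.isSolvable_iff_subgroup_quotient O).2 ⟨inferInstance, h⟩)
  have hinj : Function.Injective (f.subgroupMap (S : Subgroup G)) := by
    rw [← MonoidHom.ker_eq_bot_iff, eq_bot_iff]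
    intro x hx
    have h1 : (x : G) ∈ (S : Subgroup G) ⊓ O :=
      ⟨x.2, (QuotientGroup.eq_one_iff _).1 (congrArg Subtype.val hx)⟩
    have hco : Disjoint (S : Subgroup G) O := by
      refine Subgroup.disjoint_of_coprime_natCard ?_
      obtain ⟨k, hk⟩ := IsPGroup.iff_card.1 S.isPGroup'
      rw [hk]
      exact (Nat.coprime_two_left.2 hOodd).pow_left k
    rw [hco.eq_bot, Subgroup.mem_bot] at h1
    exact Subgroup.mem_bot.2 (Subtype.ext h1)
  let eS : (S : Subgroup G) ≃* ((S.mapSurjective hf : Sylow 2 (G ⧸ O)) : Subgroup (G ⧸ O)) :=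
    MulEquiv.ofBijective (f.subgroupMap (S : Subgroup G)) ⟨hinj, f.subgroupMap_surjective _⟩
  obtain ⟨K, hKn, hKi, F, iF, jF, h8, h3, ⟨φ⟩⟩ := core_free hGW hns' (Cores.pPrimeCore_quotient_self 2)
    (S.mapSurjective hf) (eS.symm.trans e)
  haveI := hKn
  set G₁ := K.comap f
  let g : G₁ →* K := f.subgroupComap K
  have hg : Function.Surjective g := fun y => by
    obtain ⟨x, hx⟩ := hf (y : G ⧸ O)
    exact ⟨⟨x, by show f x ∈ K; rw [hx]; exact y.2⟩, Subtype.ext hx⟩
  have hker : g.ker = O.subgroupOf G₁ := by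
    ext x
    rw [MonoidHom.mem_ker, Subgroup.mem_subgroupOf, ← QuotientGroup.eq_one_iff]
    exact ⟨fun h => congrArg Subtype.val h, fun h => Subtype.ext h⟩
  have hOG : O ≤ G₁ := fun x hx => by
    show f x ∈ K
    rw [show f x = 1 from (QuotientGroup.eq_one_iff x).2 hx]
    exact one_mem _
  refine ⟨G₁, inferInstance, inferInstance, ?_, hOG, F, iF, jF, h8, h3, ⟨?_⟩⟩
  · rwa [Subgroup.index_comap_of_surjective _ hf]
  · exact ((QuotientGroup.quotientMulEquivOfEq hker.symm).trans
      (QuotientGroup.quotientKerEquivOfSurjective g hg)).trans φ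

end Cfsg.Agent.QuatMeet
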